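import Cfsg.Agent.H19.W3

/-! Groups with an involution centralizer `O.GL₂(3)`: the numerical analysis of the principal block -/

set_option autoImplicit false

namespace Cfsg.Agent.WN

open Cfsg Cfsg.Agent.H4 Cfsg.Agent.H5 Cfsg.Agent.H6 Cfsg.Agent.H19 Subgroup M3 Finset
open scoped ComplexConjugate Matrix

section
variable {ι : Type*} [Fintype ι] {d : ι → ℤ}

theorem fin_arith' {d e : ℤ} {K : ℚ} (hK : 0 < K) (d0 : d ≠ 0) (d1 : d + 1 ≠ 0) (e0 : e ≠ 0)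
    (e1 : e + 1 ≠ 0) (f0 : d + e + 1 ≠ 0) (h8 : 8 ∣ d + 6)
    (h5 : (1 : ℚ) + 4 / d - 9 / (d + 1) = 2 * K)
    (h3 : (1 : ℚ) - 9 / (e + 1) + 16 / e = 4 * K)
    (h4 : (9 : ℚ) / (d + 1) + 16 / e - 1 / (d + e + 1) = 4 * K) :
    d + e + 2 = 0 ∨ d = 10 ∨ e = 12 := by
  have d0' : (d : ℚ) ≠ 0 := by exact_mod_cast d0
  have d1' : (d : ℚ) + 1 ≠ 0 := by exact_mod_cast d1
  have e0' : (e : ℚ) ≠ 0 := by exact_mod_cast e0
  have e1' : (e : ℚ) + 1 ≠ 0 := by exact_mod_cast e1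
  have f0' : (d : ℚ) + e + 1 ≠ 0 := by exact_mod_cast f0
  have h6 : (d + e + 2) * ((d - 8) * (e - 8) - 72) = 0 := by
    have : (1 : ℚ) - 9 / (e + 1) = 9 / (d + 1) - 1 / (d + e + 1) := by linarith
    field_simp at this
    exact_mod_cast (by linear_combination this : ((d : ℚ) + e + 2) * ((d - 8) * (e - 8) - 72) = 0)
  refine (mul_eq_zero.mp h6).imp_right fun h7 => ?_
  have h9 : |d - 8| ≤ 72 := Int.le_of_dvd (by decide) ((abs_dvd _ _).mpr ⟨e - 8, by linarith⟩)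
  have key : ∀ d ∈ Icc (-64 : ℤ) 80, d - 8 ∣ 72 → 8 ∣ d + 6 → d = 10 ∨ d = 26 ∨ d = 2 := by
    decide +kernel
  obtain rfl | rfl | rfl := key d (mem_Icc.mpr (by rw [abs_le] at h9; omega)) ⟨e - 8, by linarith⟩ h8
  · exact Or.inl rfl
  · right; omega
  · norm_num at h5; linarith

theorem gram' {a1 a2 a3 a4 a5 T : ι → ℤ} {o : ι} {K : ℚ} (hK : 0 < K) (hd : ∀ i, 0 < d i)
    (o0 : d o = 1) (o1 : a1 o = 0) (o2 : a2 o = 0) (o3 : a3 o = 1) (o4 : a4 o = 0) (o5 : a5 o = 1)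
    (g11 : ip a1 a1 = 2) (g22 : ip a2 a2 = 2) (g33 : ip a3 a3 = 3) (g44 : ip a4 a4 = 3)
    (g55 : ip a5 a5 = 3) (g21 : ip a2 a1 = -1) (g31 : ip a3 a1 = 0) (g41 : ip a4 a1 = 0)
    (g51 : ip a5 a1 = 0) (g32 : ip a3 a2 = 0) (g42 : ip a4 a2 = 0) (g52 : ip a5 a2 = 1)
    (g34 : ip a3 a4 = 1) (g53 : ip a5 a3 = 1) (g54 : ip a5 a4 = -1)
    (d1 : ip a1 d = 0) (d2 : ip a2 d = 0) (d3 : ip a3 d = 0) (d4 : ip a4 d = 0) (d5 : ip a5 d = 0)
    (hT : ∀ i, T i = 2 * a1 i + 4 * a2 i + 3 * a3 i + a4 i - 2 * a5 i)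
    (h8 : ∀ i, 8 ∣ d i + 2 * a1 i + 4 * a2 i + 5 * a3 i - a4 i + 2 * a5 i)
    (e3 : ∑ i, (T i : ℚ) ^ 2 * a3 i / d i = 4 * K) (e4 : ∑ i, (T i : ℚ) ^ 2 * a4 i / d i = 4 * K)
    (e5 : ∑ i, (T i : ℚ) ^ 2 * a5 i / d i = 2 * K) :
    (∃ z, d z = 1 ∧ a1 z = 0 ∧ a3 z = 0 ∧ a4 z = 1) ∨
      ∃ v, (a5 v ≠ 0 ∨ a3 v ≠ 0) ∧ (d v = 10 ∨ d v = 12) := by
  have m1 := pm g11 (by decide)
  have m2 := pm g22 (by decide)
  have m3 := pm g33 le_rfl
  have m4 := pm g44 le_rfl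
  have m5 := pm g55 le_rfl
  obtain ⟨p, q, s5, p2, q2⟩ : ∃ p q, S3 a5 o p q ∧ a2 p = a5 p ∧ a2 q = 0 := by
    obtain ⟨p, q, s⟩ := ex3' (i := o) g55 (by omega)
    obtain e | e := one_of (m5 p) (m2 p) (m5 q) (m2 q) s.hj s.hk (by simpa [s.ip, o2] using g52)
    exacts [⟨p, q, s, e⟩, ⟨q, p, s.swap, e.symm⟩]
  obtain ⟨u, v, s3, v4, u4⟩ : ∃ u v, S3 a3 o u v ∧ a4 v = a3 v ∧ a4 u = 0 := by
    obtain ⟨p, q, s⟩ := ex3' (i := o) g33 (by omega)
    obtain e | e := one_of (m3 p) (m4 p) (m3 q) (m4 q) s.hj s.hk (by simpa [s.ip, o4] using g34)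
    exacts [⟨q, p, s.swap, e⟩, ⟨p, q, s, e.symm⟩]
  obtain ⟨p1, q1⟩ := van s5 o5 o0 d5 g11 d1 o1 g51
  obtain ⟨u1, v1⟩ := van s3 o3 o0 d3 g11 d1 o1 g31
  obtain ⟨u2, v2⟩ := van s3 o3 o0 d3 g22 d2 o2 g32
  have p5 := s5.hj
  have q5 := s5.hk
  have u3 := s3.hj
  have v3 := s3.hk
  have p3 : a3 p = 0 := s3.zero s5.ij.symm (by rintro rfl; omega) (by rintro rfl; omega)
  have q3 : a3 q = 0 := by simpa [s5.ip, o3, o5, p3, q5] using g53
  have u5 : a5 u = 0 := s5.zero s3.ij.symm (by rintro rfl; omega) (by rintro rfl; omega)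
  have v5 : a5 v = 0 := s5.zero s3.ik.symm (by rintro rfl; omega) (by rintro rfl; omega)
  have p4 : a4 p = 0 := by
    by_contra p4
    obtain ⟨z, s⟩ := ex3 (i := v) g44 (by rintro rfl; omega) (by omega) p4
    have z1 : a1 z = 0 := by simpa [s.ip, v1, p1, s.hk] using g41
    have z2 : a2 z ≠ 0 := fun e => by simp [s.ip, v2, e, p4, p2, p5] at g42
    simp [ip2 g22 s.jk (by omega) z2, p1, z1] at g21
  have q4 : a4 q = -a5 q := by
    rw [s5.ip, o4, p4] at g54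
    obtain e | e | e := m5 q <;> rw [e] at g54 ⊢ <;> omega
  obtain ⟨z, s4⟩ := ex3 (i := q) (j := v) g44 (by rintro rfl; omega) (by omega) (by omega)
  have z4 := s4.hk
  have z1 : a1 z = 0 := by simpa [s4.ip, q1, v1, z4] using g41
  have z2 : a2 z = 0 := by simpa [s4.ip, q2, v2, z4] using g42
  have z3 : a3 z = 0 := s3.zero (by rintro rfl; omega) (by rintro rfl; omega) s4.jk.symm
  have z5 : a5 z = 0 := s5.zero (by rintro rfl; omega) (by rintro rfl; omega) s4.ik.symm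
  rw [s3.sum _ fun l e => by simp [e]] at e3
  rw [s4.sum _ fun l e => by simp [e]] at e4
  rw [s5.sum _ fun l e => by simp [e]] at e5
  rw [s3.ip] at d3
  rw [s4.ip] at d4
  rw [s5.ip] at d5
  simp only [hT, o0, o1, o2, o3, o4, o5, p1, p2, p3, p4, q1, q2, q3, q4, u1, u2, u4, u5, v1, v2, v4,
    v5, z1, z2, z3, z5] at e3 e4 e5 d3 d4 d5
  have sg : ∀ (c : ℚ) {x y : ℤ}, x = 0 ∨ x = 1 ∨ x = -1 → x ≠ 0 →
      (c * x) ^ 2 * x / y = c ^ 2 / (x * y : ℤ) := fun c x y h h0 => by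
    obtain rfl | rfl := h.resolve_left h0 <;> simp [div_neg, neg_div]
  have f5 := sg 2 (y := d p) (m5 p) p5
  have f5' := sg 3 (y := d q) (m5 q) q5
  have f3 := sg 3 (y := d u) (m3 u) u3
  have f3' := sg 4 (y := d v) (m3 v) v3
  have f4 := sg 1 (y := d z) (m4 z) z4
  have c1 : a5 q * d q = -(a5 p * d p + 1) := by omega
  have c2 : a3 u * d u = -(a3 v * d v + 1) := by omega
  have c3 : a4 z * d z = -(a5 p * d p + a3 v * d v + 1) := by linarith
  have nz : ∀ {x : ℤ} (i), x ≠ 0 → x * d i ≠ 0 := fun i h => mul_ne_zero h (hd i).ne'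
  have n1 := nz q q5
  have n2 := nz u u3
  have n3 := nz z z4
  rw [c1] at f5'
  rw [c2] at f3
  rw [c3] at f4
  have dz := hd z
  have dv := hd v
  obtain h | h | h := fin_arith' hK (nz p p5) (by omega) (nz v v3) (by omega) (by omega)
    (by have := h8 p; obtain e | e | e := m5 p <;> rw [e] <;> omega)
    (by push_cast [div_neg] at *; linear_combination e5 - f5 - f5')
    (by push_cast [div_neg] at *; linear_combination e3 - f3 - f3')
    (by push_cast [div_neg] at *; linear_combination e4 + f5' - f3' - f4)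
  · refine Or.inl ⟨z, ?_, z1, z3, ?_⟩ <;> obtain e | e | e := m4 z <;> rw [e] at c3 <;> omega
  · refine Or.inr ⟨p, Or.inl p5, Or.inl ?_⟩
    have := hd p
    obtain e | e | e := m5 p <;> rw [e] at h <;> omega
  · refine Or.inr ⟨v, Or.inr v3, Or.inr ?_⟩
    obtain e | e | e := m3 v <;> rw [e] at h <;> omega

/-- number of conjugating elements -/
def nc (m m' : M3) : ℕ := (univ.filter fun n : M3 => n * m * n⁻¹ = m').card

/-- number of factorizations into two involutions -/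
def np (m : M3) : ℕ :=
  (univ.filter fun u : M3 => (u * u = 1 ∧ u ≠ 1) ∧ u * m * (u * m) = 1 ∧ u * m ≠ 1).card

set_option maxHeartbeats 2000000 in
theorem fam (Y : ι → M3 → ℂ) (hd : ∀ i, 0 < d i) {o : ι} {K : ℚ} (K0 : 0 < K)
    (hY : ∀ i, IsCharacter M3 (Y i)) (ho : ∀ m, Y o m = 1) (o0 : d o = 1)
    (h8 : ∀ i, 8 ∣ d i - charDegree (Y i))
    (O1 : ∀ (m m' : M3) (k k' : ℕ), m ^ k = T → m' ^ k' = T →
      ∑ i, Y i m * conj (Y i m') = nc m m')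
    (O2 : ∀ (m : M3) (k : ℕ), m ^ k = T → ∑ i, Y i m * d i = 0)
    (O3 : ∀ (m : M3) (k : ℕ), m ^ k = T → ∑ i, Y i T * Y i T * conj (Y i m) / d i = np m * K) :
    (∃ z, d z = 1 ∧ Y z R = -1) ∨ ∃ v, d v = 10 ∨ d v = 12 := by
  obtain ⟨ζ, hζ⟩ := IsAlgClosed.exists_pow_nat_eq (-1 : ℂ) (n := 4) (by decide)
  have hω : (ζ + ζ ^ 3) ^ 2 = -2 := by linear_combination (ζ ^ 2 + 2) * hζ
  choose a1 a2 a3 a4 a5 x V using fun i => exists_WV (MonoidHom.id M3) hζ (hY i)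
  generalize ζ + ζ ^ 3 = ω at hω V
  have ω0 : ω ≠ 0 := by rintro rfl; norm_num at hω
  have vT : ∀ i, Y i T = _ := fun i => (V i).vT
  have vY : ∀ i, Y i (R ^ 2) = _ := fun i => (V i).vY
  have vS : ∀ i, Y i (T * X) = _ := fun i => (V i).vS
  have vR : ∀ i, Y i R = _ := fun i => (V i).vR
  have vR' : ∀ i, Y i R⁻¹ = _ := fun i => (V i).vR'
  have cR : ∀ i, conj (Y i R) = _ := fun i => vR' i ▸ ((hY i).apply_inv R).symm
  have cR' : ∀ i, conj (Y i R⁻¹) = _ := fun i => by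
    rw [(hY i).apply_inv, Complex.conj_conj, vR]
  let g : Fin 3 → M3 := ![T, R ^ 2, T * X]
  let k : Fin 3 → ℕ := ![1, 2, 3]
  have gk : ∀ i, g i ^ k i = T := by decide +kernel
  have kR : R ^ 4 = T := by decide +kernel
  have kR' : R⁻¹ ^ 4 = T := by decide +kernel
  let A : Fin 3 → ι → ℤ := ![(2 : ℤ) • a1 + (4 : ℤ) • a2 + (3 : ℤ) • a3 + a4 -
    (2 : ℤ) • a5, (2 : ℤ) • a5 - a3 + a4, a4 + a5 - a1 - (2 : ℤ) • a2]
  have hA : ∀ i j, Y j (g i) = A i j := fun i j => by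
    fin_cases i
    exacts [vT j, vY j, vS j]
  have o1 : ∀ i j, ip (A i) (A j) = nc (g i) (g j) := fun i j => by
    have := O1 _ _ _ _ (gk i) (gk j)
    simp only [hA, map_intCast] at this
    exact_mod_cast (ip_cast _ _).trans this
  have o2 : ∀ i, ip (A i) d = 0 := fun i => by
    have := O2 _ _ (gk i)
    simp only [hA] at this
    exact_mod_cast (ip_cast _ _).trans this
  have o3 : ∀ B : ι → ℤ, ∑ j, (B j : ℂ) * conj (Y j R) = 0 → ∑ j, (B j : ℂ) * conj (Y j R⁻¹) = 0 →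
      ip B (a3 - a4) = 0 ∧ ip B a1 = 0 := fun B e1 e2 => by
    simp only [cR, cR', mul_sub, mul_add, sum_add_distrib, sum_sub_distrib, ← mul_assoc,
      ← sum_mul, ← ip_cast] at e1 e2
    have e3 : (ip B (a3 - a4) : ℂ) = 0 := by
      linear_combination (exp := 1) (e1 + e2) / 2 + (rfl : (ip B (a3 - a4) : ℂ) = ip B fun i => a3 i - a4 i)
    have e4 : (ip B a1 : ℂ) * ω = 0 := by linear_combination (e2 - e1) / 2
    exact ⟨by exact_mod_cast e3, by simpa [ω0] using e4⟩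
  have o4 : ∀ i, ip (A i) (a3 - a4) = 0 ∧ ip (A i) a1 = 0 := fun i => o3 _
    (by rw [← Nat.cast_zero, ← show nc (g i) R = 0 by revert i; decide +kernel, ← O1 _ _ _ _ (gk i) kR]
        simp only [hA])
    (by rw [← Nat.cast_zero, ← show nc (g i) R⁻¹ = 0 by revert i; decide +kernel, ← O1 _ _ _ _ (gk i) kR']
        simp only [hA])
  have o5 : ip d (a3 - a4) = 0 ∧ ip d a1 = 0 := o3 _
    (by rw [← O2 _ _ kR']; exact sum_congr rfl fun j _ => by rw [(hY j).apply_inv, mul_comm])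
    (by rw [← O2 _ _ kR]
        exact sum_congr rfl fun j _ => by rw [(hY j).apply_inv, Complex.conj_conj, mul_comm])
  have key : ∀ (F : ι → ℂ) (c1 c2 c3 : ℂ), (∀ χ, F χ = c1 * ((a3 - a4) χ * (a3 - a4) χ) +
      c2 * ((a3 - a4) χ * a1 χ) + c3 * (a1 χ * a1 χ)) → ∑ χ, F χ = c1 * ip (a3 - a4) (a3 - a4) +
        c2 * ip (a3 - a4) a1 + c3 * ip a1 a1 := fun F c1 c2 c3 e => by
    simp only [ip_cast, mul_sum, ← sum_add_distrib, e]
  have f1 := (key _ 1 0 2 fun χ => by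
    rw [cR, vR, Pi.sub_apply]; linear_combination (-(a1 χ : ℂ) ^ 2) * hω).symm.trans
      (O1 _ _ _ _ kR kR)
  have f2 := (key _ 1 (2 * ω) (-2) fun χ => by
    rw [cR', vR, Pi.sub_apply]
    linear_combination (a1 χ : ℂ) ^ 2 * hω).symm.trans (O1 _ _ _ _ kR kR')
  have f3 := (key _ 1 (-2 * ω) (-2) fun χ => by
    rw [cR, vR', Pi.sub_apply]
    linear_combination (a1 χ : ℂ) ^ 2 * hω).symm.trans (O1 _ _ _ _ kR' kR)
  rw [show nc R R = 8 by decide +kernel] at f1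
  rw [show nc R R⁻¹ = 0 by decide +kernel] at f2
  rw [show nc R⁻¹ R = 0 by decide +kernel] at f3
  push_cast at f1 f2 f3
  have g1 : ip (a3 - a4) (a3 - a4) = 4 := by
    exact_mod_cast (by linear_combination f1 / 2 + (f2 + f3) / 4 : (ip (a3 - a4) (a3 - a4) : ℂ) = 4)
  have g11 : ip a1 a1 = 2 := by
    exact_mod_cast (by linear_combination f1 / 4 - (f2 + f3) / 8 : (ip a1 a1 : ℂ) = 2)
  have g2 : ip (a3 - a4) a1 = 0 := by
    simpa [ω0] using (by linear_combination (f2 - f3) / 4 : (ip (a3 - a4) a1 : ℂ) * ω = 0)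
  have p01 := o2 0
  have p02 := o2 1
  have p03 := o2 2
  have p12 : ip (A 0) (A 1) = 0 := (o1 0 1).trans (by decide +kernel)
  have p13 : ip (A 0) (A 2) = 0 := (o1 0 2).trans (by decide +kernel)
  have p23 : ip (A 1) (A 2) = 0 := (o1 1 2).trans (by decide +kernel)
  have p11 : ip (A 0) (A 0) = 48 := (o1 0 0).trans (by decide +kernel)
  have p22 : ip (A 1) (A 1) = 8 := (o1 1 1).trans (by decide +kernel)
  have p33 : ip (A 2) (A 2) = 6 := (o1 2 2).trans (by decide +kernel)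
  obtain ⟨p04, p05⟩ := o5
  obtain ⟨p14, p15⟩ := o4 0
  obtain ⟨p24, p25⟩ := o4 1
  obtain ⟨p34, p35⟩ := o4 2
  rw [ip_comm] at p04 p05
  have ipd : ∀ a b : ι → ℤ, ip a b = a ⬝ᵥ b := fun _ _ => rfl
  simp only [A, Matrix.cons_val, ipd, add_dotProduct, sub_dotProduct, dotProduct_add, dotProduct_sub,
    smul_dotProduct, dotProduct_smul, smul_eq_mul, dotProduct_comm a1 a2,
    dotProduct_comm a1 a3, dotProduct_comm a1 a4, dotProduct_comm a1 a5, dotProduct_comm a2 a3,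
    dotProduct_comm a2 a4, dotProduct_comm a2 a5, dotProduct_comm a4 a3, dotProduct_comm a3 a5,
    dotProduct_comm a4 a5]
    at p01 p02 p03 p04 p05 p11 p12 p13 p14 p15 p22 p23 p24 p25 p33 p34 p35 g1 g2
  simp only [← ipd] at p01 p02 p03 p04 p05 p11 p12 p13 p14 p15 p22 p23 p24 p25 p33 p34 p35 g1 g2
  have one : ∀ {n : ℤ} {g : M3}, Y o g = n → n = 1 := fun {n _} e => by
    rw [ho] at e
    exact_mod_cast (show (n : ℂ) = 1 from e.symm)
  have o1 : a1 o = 0 := by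
    have e1 := vR o
    have e2 := vR' o
    rw [ho] at e1 e2
    simpa [ω0] using (by linear_combination (e1.symm.trans e2) / 2 : (a1 o : ℂ) * ω = 0)
  have t1 : 2 * a1 o + 4 * a2 o + 3 * a3 o + a4 o - 2 * a5 o = 1 := one (vT o)
  have t2 : 2 * a5 o - a3 o + a4 o = 1 := one (vY o)
  have t3 : a4 o + a5 o - a1 o - 2 * a2 o = 1 := one (vS o)
  have t4 : a3 o - a4 o = 1 := one ((vR o).trans (by simp [o1]))
  have qT := O3 T 1 (by decide +kernel)
  have qY := O3 (R ^ 2) 2 (by decide +kernel)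
  have qS := O3 (T * X) 3 (by decide +kernel)
  have qR := O3 R 4 kR
  have qR' := O3 R⁻¹ 4 kR'
  rw [show np T = 12 by decide +kernel] at qT
  rw [show np (R ^ 2) = 4 by decide +kernel] at qY
  rw [show np (T * X) = 6 by decide +kernel] at qS
  rw [show np R = 0 by decide +kernel] at qR
  rw [show np R⁻¹ = 0 by decide +kernel] at qR'
  simp only [cR, cR', vT, vY, vS, map_intCast, Nat.cast_ofNat] at qT qY qS qR qR'
  have cast : ∀ (a : ι → ℤ) (n : ℚ) (c1 c2 c3 c4 : ℂ), 12 * c1 + 4 * c2 + 6 * c3 = n →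
      (∀ χ, (a χ : ℂ) = c1 * (2 * a1 χ + 4 * a2 χ + 3 * a3 χ + a4 χ - 2 * a5 χ : ℤ) +
        c2 * (2 * a5 χ - a3 χ + a4 χ : ℤ) + c3 * (a4 χ + a5 χ - a1 χ - 2 * a2 χ : ℤ) +
        2 * c4 * (a3 χ - a4 χ : ℤ)) →
      ∑ χ, ((2 * a1 χ + 4 * a2 χ + 3 * a3 χ + a4 χ - 2 * a5 χ : ℤ) : ℚ) ^ 2 * a χ / d χ =
        n * K := fun a n c1 c2 c3 c4 e1 e2 => by
    apply Rat.cast_injective (α := ℂ)
    simp only [Rat.cast_sum, Rat.cast_div, Rat.cast_mul, Rat.cast_pow, Rat.cast_intCast,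
      Rat.cast_natCast, Rat.cast_ofNat, ← e1]
    refine Eq.trans ?_ (congr(c1 * $qT + c2 * $qY + c3 * $qS + c4 * $qR + c4 * $qR').trans
      (by push_cast; ring))
    simp only [mul_sum, ← sum_add_distrib]
    exact sum_congr rfl fun χ _ => by rw [e2]; ring
  obtain ⟨z, z0, z1, z3, z4⟩ | ⟨v, -, hv⟩ :=
    gram' (T := fun χ => 2 * a1 χ + 4 * a2 χ + 3 * a3 χ + a4 χ - 2 * a5 χ) (a2 := a2) (a3 := a3)
      (a4 := a4) (a5 := a5) K0 hd o0 o1 (by omega)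
      (by omega) (by omega) (by omega) g11 (by omega) (by omega) (by omega) (by omega) (by omega)
      (by omega) (by omega) (by omega) (by omega) (by omega) (by omega) (by omega) (by omega)
      (by omega) p05 (by omega) (by omega) (by omega) (by omega) (fun _ => rfl)
      (fun χ => by have := (V χ).d8; have := h8 χ; omega)
      (cast a3 4 (1 / 6) 0 (1 / 3) (1 / 4) (by norm_num) fun χ => by push_cast; ring)
      (cast a4 4 (1 / 6) 0 (1 / 3) (-1 / 4) (by norm_num) fun χ => by push_cast; ring)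
      (cast a5 2 0 (1 / 2) 0 (1 / 4) (by norm_num) fun χ => by push_cast; ring)
  · refine Or.inl ⟨z, z0, ?_⟩
    rw [vR, z1, z3, z4]; norm_num
  · exact Or.inr ⟨v, hv⟩

end

end Cfsg.Agent.WN
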