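import Cfsg.Agent.WN.A
import Cfsg.Agent.S4487
import Cfsg.Agent.H6.Kernel
import Cfsg.Agent.H11.Fus

/-! Groups with an involution centralizer `O.GL₂(3)`: deflation of characters -/

set_option autoImplicit false

namespace Cfsg.Agent.WN

open Cfsg Cfsg.Agent.H4 Cfsg.Agent.H5 Cfsg.Agent.H6 Cfsg.Agent.H19 Subgroup M3 Finset
open scoped ComplexConjugate

section
variable {C Q : Type*} [Group C] [Group Q]

theorem sum_comp_surj [Fintype C] [Fintype Q] (π : C →* Q) (hπ : Function.Surjective π)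
    (F : Q → ℂ) : ∑ c, F (π c) = Nat.card π.ker * ∑ q, F q := by
  classical
  rw [Finset.sum_comp F π, Finset.image_univ_of_surjective hπ, mul_sum]
  refine sum_congr rfl fun q _ => ?_
  obtain ⟨g, rfl⟩ := hπ q
  rw [nsmul_eq_mul, ← Nat.card_eq_finsetCard]
  congr 2
  refine Nat.card_congr
    { toFun := fun y => ⟨g⁻¹ * y.1, ?_⟩
      invFun := fun s => ⟨g * s.1, ?_⟩
      left_inv := fun y => by simp
      right_inv := fun y => by simp }
  · rw [MonoidHom.mem_ker, map_mul, map_inv, (mem_filter.mp y.2).2, inv_mul_cancel]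
  · simp [show π s.1 = 1 from s.2]

theorem exists_defl [Finite C] [Finite Q] (π : C →* Q) (hπ : Function.Surjective π)
    [Fintype π.ker] {ψ : C → ℂ} (hψ : IsCharacter C ψ) : ∃ Y : Q → ℂ, IsCharacter Q Y ∧
      (∀ c, ∑ n : π.ker, ψ (n * c) = Nat.card π.ker * Y (π c)) ∧
      ∀ B : Set (IrrCharacter C), (∀ ξ, ξ ∈ B ↔ π.ker ≤ charKer (ξ : C → ℂ)) →
        ∀ c, blockPart B ψ c = Y (π c) := by
  classical
  haveI := Fintype.ofFinite C
  let e := QuotientGroup.quotientKerEquivOfSurjective π hπ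
  have he : ∀ c, e.symm (π c) = (c : C ⧸ π.ker) := fun c => e.symm_apply_eq.mpr rfl
  choose k hk using fun φ : IrrCharacter (C ⧸ π.ker) =>
    hψ.classInner_nat (φ.2.comp_of_surjective (QuotientGroup.mk' π.ker)
      (QuotientGroup.mk'_surjective _)).isCharacter
  have key : ∀ c, ∑ ξ ∈ univ.filter (fun ξ : IrrCharacter C => π.ker ≤ charKer (ξ : C → ℂ)),
      classInner ψ ξ * (ξ : C → ℂ) c =
      (∑ φ : IrrCharacter (C ⧸ π.ker), k φ • fun q => (φ : C ⧸ π.ker → ℂ) (e.symm q)) (π c) :=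
    fun c => by
      rw [sum_irr_filter_le_charKer π.ker (fun ξ => classInner ψ ξ * ξ c), Finset.sum_apply]
      refine sum_congr rfl fun φ _ => ?_
      rw [Pi.smul_apply, he, nsmul_eq_mul, ← hk]
      rfl
  refine ⟨_, isCharacter_sum univ _ fun (φ : IrrCharacter (C ⧸ π.ker)) _ =>
    ((φ.2.comp_equiv e.symm).isCharacter.nsmul (k φ)),
    fun c => ?_, fun B hB c => ?_⟩
  · rw [← key, sum_filter, mul_sum]
    conv_lhs => rw [hψ.eq_sum]
    simp only [Finset.sum_apply, Pi.smul_apply, smul_eq_mul]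
    rw [sum_comm]
    refine sum_congr rfl fun ξ _ => ?_
    rw [← mul_sum]
    split_ifs with h
    · rw [sum_congr rfl fun n _ => apply_mul_of_mem_charKer (h n.2) c]
      simp [Nat.card_eq_fintype_card]; ring
    · rw [ξ.2.sum_normal_mul_eq_zero _ h, mul_zero, mul_zero]
  · rw [← key, blockPart_eq_sum, sum_filter]
    exact sum_congr rfl fun ξ _ => by simp only [hB]

theorem col [Fintype C] [DecidableEq C] (g h : C) :
    ∑ χ : IrrCharacter C, (χ : C → ℂ) g * conj ((χ : C → ℂ) h) =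
      ∑ x : C, if x * g * x⁻¹ = h then 1 else 0 := by
  rw [sum_boole]
  by_cases hc : IsConj g h
  · rw [column_orthogonality_of_isConj hc, ← Nat.card_eq_finsetCard]
    obtain ⟨c, rfl⟩ := isConj_iff.mp hc
    congr 1
    refine Nat.card_congr
      { toFun := fun y => ⟨c * y.1, ?_⟩
        invFun := fun s => ⟨c⁻¹ * s.1, ?_⟩
        left_inv := fun y => by simp
        right_inv := fun y => by simp }
    · have := mem_centralizer_singleton_iff.mp y.2
      simp only [mem_filter, mem_univ, true_and, mul_inv_rev, mul_assoc]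
      rw [← mul_assoc y.1, this]; simp [mul_assoc]
    · have := (mem_filter.mp s.2).2
      rw [mem_centralizer_singleton_iff]
      calc c⁻¹ * s.1 * g = c⁻¹ * (s.1 * g * s.1⁻¹) * s.1 := by group
        _ = _ := by rw [this]; group
  · rw [column_orthogonality_of_not_isConj hc, filter_eq_empty_iff.mpr
      fun x _ e => hc (isConj_iff.mpr ⟨x, e⟩)]
    simp

end

/-- the quaternion subgroup -/
def Q8 : Subgroup M3 where
  carrier := {m | m = 1 ∨ m = T ∨ m * m = T}
  one_mem' := Or.inl rfl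
  mul_mem' := fun {a b} => by simp only [Set.mem_setOf_eq]; revert a b; decide +kernel
  inv_mem' := fun {a} => by simp only [Set.mem_setOf_eq]; revert a; decide +kernel

theorem mem_Q8 {m : M3} : m ∈ Q8 ↔ m = 1 ∨ m = T ∨ m * m = T := Iff.rfl

instance : Q8.Normal := ⟨fun a => by simp only [mem_Q8]; revert a; decide +kernel⟩

open MonoidAlgebra Cfsg.Agent.H7 in
theorem same_M3 {M : Ideal AlgInt} (hM : IsPModular 2 M) (χ ψ : IrrCharacter M3) :
    SameBlock M (χ : M3 → ℂ) (ψ : M3 → ℂ) := by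
  haveI := hM.2.1; haveI := H6.charP_res hM
  have hp : IsPGroup 2 Q8 := fun m => ⟨2, Subtype.ext (by
    have : ∀ m : M3, (m = 1 ∨ m = T ∨ m * m = T) → m ^ 2 ^ 2 = 1 := by decide +kernel
    exact this m m.2)⟩
  have hc : centralizer (Q8 : Set M3) ≤ Q8 := fun m hm => by
    have : ∀ m : M3, (∀ q : M3, (q = 1 ∨ q = T ∨ q * q = T) → q * m = m * q) →
      (m = 1 ∨ m = T ∨ m * m = T) := by decide +kernel
    exact this m hm
  have key : ∀ B : Set (IrrCharacter M3), IsPBlock M B → eB M B = 1 := fun B hB => by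
    have h1 := supp_centralizer_of_idem hp le_top
      Subgroup.le_normalizer_of_normal (blk_eB hB).mem (blk_eB hB).idem
    exact (idem_eq_zero_or_one_of_supp hp
      ⟨h1.mono hc, (blk_eB hB).mem.2.mono le_top⟩ (blk_eB hB).idem).resolve_left
        (blk_eB hB).ne_zero
  have h := H6.eB_injective (H6.isPBlock_blockOf (M := M) χ) (H6.isPBlock_blockOf ψ)
    (by rw [key _ (H6.isPBlock_blockOf χ), key _ (H6.isPBlock_blockOf ψ)])
  exact H6.mem_blockOf.1 (h ▸ H6.mem_blockOf_self ψ)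

theorem mem_principal_iff {C : Type*} [Group C] [Finite C] {M : Ideal AlgInt} (hM : IsPModular 2 M)
    (π : C →* M3) (hπ : Function.Surjective π) (ho : Odd (Nat.card π.ker)) (ξ : IrrCharacter C) :
    ξ ∈ principalBlock M C ↔ π.ker ≤ charKer (ξ : C → ℂ) := by
  haveI := hM.2.1
  refine ⟨le_charKer_of_mem_principal hM ho.not_two_dvd_nat, fun h => ?_⟩
  let e := QuotientGroup.quotientKerEquivOfSurjective π hπ
  obtain ⟨φ, hφ⟩ := (irrQuotientEquiv π.ker).surjective ⟨ξ, h⟩
  have h1 := sameBlock_comp π hπ (same_M3 hM (irrOne M3) ⟨_, φ.2.comp_equiv e.symm⟩)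
  have h2 : (ξ : C → ℂ) = fun c => (φ : C ⧸ π.ker → ℂ) (e.symm (π c)) := funext fun c => by
    rw [show e.symm (π c) = (c : C ⧸ π.ker) from e.symm_apply_eq.mpr rfl,
      ← irrQuotientEquiv_apply, hφ]
  change SameBlock M _ _
  rw [h2]
  exact h1

end Cfsg.Agent.WN
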