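import Cfsg.Agent.WN.B

/-! A simple group with an involution centralizer `O.GL₂(3)`, `O` inverted, has `O = 1` -/

set_option autoImplicit false

namespace Cfsg.Agent.WN

open Cfsg Cfsg.Agent.H4 Cfsg.Agent.H5 Cfsg.Agent.H6 Cfsg.Agent.H19 Subgroup M3 Finset
open scoped ComplexConjugate

variable {G : Type*} [Group G]

/-- the involution as an element of its centralizer -/
def zc (z : G) : centralizer ({z} : Set G) := ⟨z, mem_centralizer_singleton_iff.mpr rfl⟩

theorem zc_comm {z : G} (c : centralizer ({z} : Set G)) : c * zc z = zc z * c :=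
  Subtype.ext (mem_centralizer_singleton_iff.mp c.2)

/-- an involution centralizer which is an extension of an inverted odd group by `GL₂(3)` -/
structure WO (z : G) (π : centralizer ({z} : Set G) →* M3) : Prop where
  z2 : orderOf z = 2
  surj : Function.Surjective π
  odd : Odd (Nat.card π.ker)
  fpf : ∀ u : centralizer ({z} : Set G), u * u = 1 → u ≠ 1 → u ≠ zc z →
    ∀ n ∈ π.ker, u * n = n * u → n = 1
  one : ∀ u : G, u * u = 1 → u ≠ 1 → IsConj z u

namespace WO

variable [Finite G] {z : G} {π : centralizer ({z} : Set G) →* M3} (h : WO z π)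
include h

theorem odd_ord {n : centralizer ({z} : Set G)} (hn : π n = 1) : Odd (orderOf n) :=
  h.odd.of_dvd_nat (π.ker.orderOf_dvd_natCard hn)

theorem eq_one {u : centralizer ({z} : Set G)} {k : ℕ} (h1 : u ^ 2 ^ k = 1) (h2 : π u = 1) :
    u = 1 :=
  orderOf_eq_one_iff.mp (Nat.eq_one_of_dvd_coprimes ((h.odd_ord h2).coprime_two_right.pow_right k)
    dvd_rfl (orderOf_dvd_of_pow_eq_one h1))

theorem zz : zc z * zc z = 1 := Subtype.ext (by rw [← sq, ← h.z2]; exact pow_orderOf_eq_one z)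

theorem z1 : zc z ≠ 1 := fun e => by
  have := h.z2
  rw [show z = 1 from congrArg Subtype.val e, orderOf_one] at this
  omega

theorem hT : π (zc z) = T := (central _ fun n => by
  obtain ⟨c, rfl⟩ := h.surj n
  rw [← map_mul, zc_comm, map_mul]).resolve_left fun e =>
    h.z1 (h.eq_one (k := 1) (by rw [pow_one, sq, h.zz]) e)

theorem pow_z {c : centralizer ({z} : Set G)} {k : ℕ} (e : π c ^ k = T) : ∃ j, c ^ j = zc z := by
  have h1 : π ((zc z)⁻¹ * c ^ k) = 1 := by rw [map_mul, map_inv, map_pow, e, h.hT, inv_mul_cancel]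
  obtain ⟨r, hr⟩ := h.odd_ord h1
  refine ⟨k * (2 * r + 1), ?_⟩
  rw [pow_mul, show c ^ k = zc z * ((zc z)⁻¹ * c ^ k) by group,
    (show Commute _ _ from (zc_comm _).symm).mul_pow, ← hr, pow_orderOf_eq_one, mul_one, hr,
    pow_succ, pow_mul, sq, h.zz, one_pow, one_mul]

theorem inv {c : centralizer ({z} : Set G)} (h1 : π c * π c = 1) (h2 : π c ≠ 1) (h3 : π c ≠ T) :
    c * c = 1 := by
  obtain ⟨r, hr⟩ := h.odd_ord (n := c * c) (by rw [map_mul, h1])
  have e : π (c ^ (2 * r + 1)) = π c := by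
    rw [map_pow, pow_succ, pow_mul, sq, h1, one_pow, one_mul]
  refine h.fpf (c ^ (2 * r + 1)) ?_ (fun e' => h2 (by rw [← e, e', map_one]))
    (fun e' => h3 (by rw [← e, e', h.hT])) _ (by rw [MonoidHom.mem_ker, map_mul, h1]) (by group)
  rw [← (Commute.refl c).mul_pow, ← hr, pow_orderOf_eq_one]

theorem isConj_mul {c : centralizer ({z} : Set G)} (h1 : π c * π c = 1) (h2 : π c ≠ 1)
    (h3 : π c ≠ T) (n : π.ker) : ∃ r : centralizer ({z} : Set G), r * c * r⁻¹ = n * c := by
  have h4 := H11.inverts_of_fixedPointFree (D := π.ker) (h.inv h1 h2 h3)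
    (le_normalizer_of_normal (mem_top c))
    (h.fpf c (h.inv h1 h2 h3) (fun e => h2 (by rw [e, map_one])) fun e => h3 (by rw [e, h.hT]))
  obtain ⟨r, hr⟩ := h.odd_ord (n := n) n.2
  refine ⟨n ^ (r + 1), ?_⟩
  have := h4 _ (inv_mem (pow_mem n.2 (r + 1)))
  calc n.1 ^ (r + 1) * c * (n.1 ^ (r + 1))⁻¹
      = n.1 ^ (r + 1) * (c * (n.1 ^ (r + 1))⁻¹ * c⁻¹) * c := by group
    _ = n.1 ^ (2 * r + 1) * n.1 * c := by rw [this]; group
    _ = _ := by rw [← hr, pow_orderOf_eq_one, one_mul]

theorem mem_of_conj {c c' : centralizer ({z} : Set G)} {k k' : ℕ} (e : π c ^ k = T)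
    (e' : π c' ^ k' = T) {x : G} (hx : x * c * x⁻¹ = c') : x ∈ centralizer ({z} : Set G) := by
  obtain ⟨j, hj⟩ := h.pow_z e
  obtain ⟨j', hj'⟩ := h.pow_z e'
  have h1 : (c : G) ^ j = z := congrArg Subtype.val hj
  have h2 : (c' : G) ^ j' = z := congrArg Subtype.val hj'
  rw [mem_centralizer_singleton_iff, ← mul_inv_eq_iff_eq_mul]
  refine H11.invol_unique_zpowers (a := (c' : G)) (by rw [H11.orderOf_conj, h.z2]) h.z2 ?_
    ⟨(j' : ℤ), by simpa using h2⟩
  exact ⟨(j : ℤ), by simp only [zpow_natCast]; rw [← hx, conj_pow, h1]⟩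

theorem cent_le {c : centralizer ({z} : Set G)} {k : ℕ} (e : π c ^ k = T) {u : G}
    (hu : IsPPart 2 (c : G) u) : centralizer ({u} : Set G) ≤ centralizer ({z} : Set G) := by
  obtain ⟨j, hj⟩ := h.pow_z e
  have h1 : (c : G) ^ j = z := congrArg Subtype.val hj
  have h2 : IsPPart 2 ((c : G) ^ j) (u ^ j) := by
    obtain ⟨y, e1, e2, ⟨a, e3⟩, e4⟩ := hu
    refine ⟨y ^ j, by rw [← e2.mul_pow, e1], (e2.pow_left j).pow_right j, ?_,
      fun e => e4 (e.trans (orderOf_pow_dvd j))⟩
    obtain ⟨b, -, hb⟩ := (Nat.dvd_prime_pow Nat.prime_two).mp (e3 ▸ orderOf_pow_dvd (x := u) j)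
    exact ⟨b, hb⟩
  rw [h1] at h2
  rw [← H6.IsPPart.unique Nat.prime_two h2 (isPPart_self Nat.prime_two ⟨1, h.z2⟩)]
  intro g hg
  rw [mem_centralizer_singleton_iff] at hg ⊢
  exact (Commute.pow_right hg j).eq

theorem card_pairs {c : centralizer ({z} : Set G)} {k : ℕ} (e : π c ^ k = T) :
    (Nat.card {p : G × G // IsConj z p.1 ∧ IsConj z p.2 ∧ p.1 * p.2 = c} : ℂ) =
      Nat.card π.ker * np (π c) := by
  classical
  haveI := Fintype.ofFinite (centralizer ({z} : Set G))
  have c1 : ∀ u : G, IsConj z u ↔ u * u = 1 ∧ u ≠ 1 := fun u => by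
    refine ⟨fun e => ?_, fun e => h.one u e.1 e.2⟩
    obtain ⟨x, rfl⟩ := isConj_iff.mp e
    exact ⟨by rw [conj_mul, show z * z = 1 from congrArg Subtype.val h.zz]; simp,
      by simpa using fun e : z = 1 => h.z1 (Subtype.ext e)⟩
  have c2 : ∀ u : centralizer ({z} : Set G), π u ≠ T →
      (IsConj z u ↔ π u * π u = 1 ∧ π u ≠ 1) := fun u hu => by
    rw [c1]
    refine ⟨fun e => ⟨by rw [← map_mul, show u * u = 1 from Subtype.ext e.1, map_one], fun e' =>
      e.2 (congrArg Subtype.val (h.eq_one (k := 1) (by rw [pow_one, sq]; exact Subtype.ext e.1) e'))⟩,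
      fun e => ⟨congrArg Subtype.val (h.inv e.1 e.2 hu), fun e' => e.2 ?_⟩⟩
    rw [show u = 1 from Subtype.ext e', map_one]
  have c3 : ∀ m u : M3, (∃ k : Fin 24, m ^ k.1 = T) → u * u = 1 → u ≠ 1 → u * m * (u * m) = 1 →
      u * m ≠ 1 → u ≠ T ∧ u * m ≠ T := by decide +kernel
  have c4 : ∃ k : Fin 24, π c ^ k.1 = T := ⟨⟨k % 24, Nat.mod_lt _ (by decide)⟩, by
    rw [← e, pow_eq_pow_mod k ((by decide +kernel : ∀ m : M3, m ^ 24 = 1) _)]⟩
  have := sum_comp_surj π h.surj fun u =>
    if (u * u = 1 ∧ u ≠ 1) ∧ u * π c * (u * π c) = 1 ∧ u * π c ≠ 1 then 1 else 0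
  rw [sum_boole, sum_boole] at this
  rw [np, ← this, ← Nat.card_eq_finsetCard]
  congr 1
  refine (Nat.card_congr (Equiv.ofBijective (fun u => ⟨((u.1 : G), (u.1 : G) * c), ?_, ?_, ?_⟩)
    ⟨fun a b e => ?_, fun ⟨⟨a, b⟩, h1, h2, h3⟩ => ?_⟩)).symm
  rotate_left
  · have := (mem_filter.mp u.2).2
    exact (c2 _ (c3 _ _ c4 this.1.1 this.1.2 this.2.1 this.2.2).1).mpr this.1
  · have := (mem_filter.mp u.2).2
    have h5 := (c3 _ _ c4 this.1.1 this.1.2 this.2.1 this.2.2).2
    have h6 := this.2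
    rw [← map_mul π u.1 c] at h5 h6
    exact (c2 _ h5).mpr h6
  · have := (mem_filter.mp u.2).2
    have h5 := (c1 _).mp ((c2 _ (c3 _ _ c4 this.1.1 this.1.2 this.2.1 this.2.2).1).mpr this.1)
    change (u.1 : G) * (u.1 * c) = c
    rw [← mul_assoc, h5.1, one_mul]
  rotate_right
  · exact Subtype.ext (Subtype.ext (congrArg Prod.fst (congrArg Subtype.val e)))
  · have a2 := ((c1 _).mp h1).1
    have b2 := ((c1 _).mp h2).1
    have e1 : a * c * a⁻¹ = (c⁻¹ : centralizer ({z} : Set G)) := by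
      rw [Subgroup.coe_inv, ← h3, inv_eq_of_mul_eq_one_left a2, mul_inv_rev,
        inv_eq_of_mul_eq_one_left a2, inv_eq_of_mul_eq_one_left b2, ← mul_assoc, a2, one_mul]
    have ha := h.mem_of_conj e (k' := k) (by
      rw [map_inv, inv_pow, e, show T⁻¹ = T by decide +kernel]) e1
    have e' : a * c = b := by rw [← h3, ← mul_assoc, a2, one_mul]
    have p1 : ∀ u : centralizer ({z} : Set G), IsConj z u → π u * π u = 1 ∧ π u ≠ 1 := fun u hu => by
      by_cases hu' : π u = T
      · rw [hu']; decide +kernel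
      · exact (c2 u hu').mp hu
    refine ⟨⟨⟨a, ha⟩, mem_filter.mpr ⟨mem_univ _, p1 _ h1, ?_⟩⟩, Subtype.ext (Prod.ext rfl e')⟩
    rw [← map_mul]
    exact p1 (⟨a, ha⟩ * c) (by rw [show ((⟨a, ha⟩ * c : centralizer ({z} : Set G)) : G) = b from e']; exact h2)

theorem sum_conj [Fintype G] [DecidableEq G] [Fintype π.ker] {c c' : centralizer ({z} : Set G)}
    {k k' : ℕ} (e : π c ^ k = T) (e' : π c' ^ k' = T) :
    ∑ n : π.ker, ∑ x : G, (if x * (n.1 * c : centralizer ({z} : Set G)) * x⁻¹ = c' then (1 : ℂ) else 0) =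
      Nat.card π.ker * nc (π c) (π c') := by
  classical
  haveI := Fintype.ofFinite (centralizer ({z} : Set G))
  have := sum_comp_surj π h.surj fun u => if u * π c * u⁻¹ = π c' then 1 else 0
  rw [nc, ← sum_boole, ← this, sum_comm, ← sum_subset (subset_univ (univ.filter (· ∈ centralizer ({z} : Set G)))),
    sum_subtype (p := (· ∈ centralizer ({z} : Set G))) _ (by simp)]
  · refine sum_congr rfl fun x _ => ?_
    split_ifs with hx
    · have hn : x⁻¹ * c' * x * c⁻¹ ∈ π.ker := by
        rw [MonoidHom.mem_ker]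
        simp only [map_mul, map_inv, ← hx]
        group
      rw [sum_eq_single ⟨_, hn⟩, if_pos]
      · push_cast; group
      · refine fun n _ hne => if_neg fun e => hne (Subtype.ext (Subtype.ext ?_))
        push_cast at e ⊢
        rw [← e]; group
      · simp
    · refine sum_eq_zero fun n _ => if_neg fun e => hx ?_
      have e2 : x * (n.1 * c) * x⁻¹ = c' := Subtype.ext e
      rw [← e2]
      simp [show π n.1 = 1 from n.2]
  · refine fun x _ hx => sum_eq_zero fun n _ => if_neg fun e1 => hx ?_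
    exact mem_filter.mpr ⟨mem_univ _, h.mem_of_conj (k := k)
      (by rw [map_mul, show π n.1 = 1 from n.2, one_mul, e]) e' e1⟩

theorem kill [IsSimpleGroup G] (hG : ¬ IsMulCommutative G) : π.ker = ⊥ := by
  classical
  haveI := Fintype.ofFinite G
  haveI := Fintype.ofFinite π.ker
  obtain ⟨M, hM⟩ := exists_isPModular Nat.prime_two
  haveI := hM.2.1
  have hz : ∃ k, orderOf z = 2 ^ k := ⟨1, h.z2⟩
  choose Y hY hav hbl using fun χ : IrrCharacter G =>
    exists_defl π h.surj (χ.2.isCharacter.comp (centralizer ({z} : Set G)).subtype)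
  have hB := mem_principal_iff hM π h.surj h.odd
  have P1 : ∀ (c : centralizer ({z} : Set G)) (k : ℕ), π c ^ k = T → ∀ χ ∈ principalBlock M G,
      (χ : G → ℂ) c = Y χ (π c) := fun c k e χ hχ => by
    obtain ⟨u, hu⟩ := exists_isPPart Nat.prime_two (c : G)
    rw [← hbl χ _ hB, ← principal_restrict_of_mem hM
      (fun b hb => inducedBlockDefined_centralizer_elt hM hz hb) hu (h.cent_le e hu) hχ]
    rfl
  have P2 : ∀ (c : centralizer ({z} : Set G)) (k : ℕ), π c ^ k = T → ∀ χ ∉ principalBlock M G,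
      Y χ (π c) = 0 := fun c k e χ hχ => by
    obtain ⟨u, hu⟩ := exists_isPPart Nat.prime_two (c : G)
    rw [← hbl χ _ hB]
    exact principal_restrict_of_not_mem hM
      (inducedBlockDefined_centralizer_elt hM hz isPBlock_principal) hu (h.cent_le e hu) hχ
  have m0 : (Nat.card π.ker : ℂ) ≠ 0 := by exact_mod_cast Nat.card_pos.ne'
  have sub : ∀ F : IrrCharacter G → ℂ, (∀ χ ∉ principalBlock M G, F χ = 0) →
      ∑ χ : principalBlock M G, F χ = ∑ χ, F χ := fun F hF => by
    rw [← sum_subtype (univ.filter (· ∈ principalBlock M G)) (by simp)]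
    exact sum_subset (subset_univ _) fun χ _ hχ => hF χ (by simpa using hχ)
  obtain ⟨P, cP⟩ : ∃ P : Subgroup (centralizer ({z} : Set G)), Nat.card P = 16 := by
    obtain ⟨P⟩ : Nonempty (Sylow 2 (centralizer ({z} : Set G))) := inferInstance
    refine ⟨P, ?_⟩
    have e1 := π.ker.card_mul_index
    rw [index_ker, MonoidHom.range_eq_top.mpr h.surj, card_top, card_eq] at e1
    rw [P.card_eq_multiplicity, ← e1, Nat.factorization_mul Nat.card_pos.ne' (by decide),
      Finsupp.add_apply, Nat.factorization_eq_zero_of_not_dvd h.odd.not_two_dvd_nat, zero_add,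
      show 48 = 2 ^ 4 * 3 by rfl, Nat.factorization_mul (by decide) (by decide),
      Finsupp.add_apply, Nat.prime_two.factorization_pow, Finsupp.single_eq_same,
      Nat.factorization_eq_zero_of_not_dvd (by decide)]
    rfl
  haveI := Fintype.ofFinite P
  have d16 : ∀ χ ∈ principalBlock M G, (16 : ℤ) ∣ charDegree (χ : G → ℂ) - charDegree (Y χ) :=
    fun χ hχ => by
    obtain ⟨a, ha⟩ := exists_sum_eq (χ.2.isCharacter.comp (centralizer ({z} : Set G)).subtype) P
    obtain ⟨b, hb⟩ := exists_sum_eq ((hY χ).comp π) P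
    have e : ∑ s : P, ((χ : G → ℂ) s.1 - Y χ (π s)) = (χ : G → ℂ) 1 - Y χ 1 := by
      rw [sum_eq_single 1]
      · simp
      · intro s _ hs
        have s16 : s.1 ^ 2 ^ 4 = 1 := by
          have := pow_card_eq_one' (x := s)
          rw [cP] at this
          exact congrArg Subtype.val this
        have s1 : π s ≠ 1 := fun e => hs (Subtype.ext (h.eq_one s16 e))
        obtain ⟨k, e⟩ | e := (by decide +kernel : ∀ m : M3, m ^ 2 ^ 4 = 1 → m ≠ 1 →
          (∃ k : Fin 5, m ^ k.1 = T) ∨ (m * m = 1 ∧ m ≠ T)) (π s)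
          (by rw [← map_pow, s16, map_one]) s1
        · rw [P1 _ _ e χ hχ, sub_self]
        · have := hav χ s
          rw [sum_congr rfl (g := fun _ => (χ : G → ℂ) s.1) fun n _ => by
            obtain ⟨r, hr⟩ := h.isConj_mul e.1 s1 e.2 n
            rw [← hr]
            exact χ.2.isClassFunction _ _] at this
          rw [sum_const, card_univ, ← Nat.card_eq_fintype_card, nsmul_eq_mul] at this
          rw [mul_left_cancel₀ m0 this, sub_self]
      · simp
    rw [sum_sub_distrib, hb, ← χ.2.isCharacter.charDegree_cast, ← (hY χ).charDegree_cast] at e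
    erw [ha] at e
    rw [cP] at e
    exact ⟨a - b, by exact_mod_cast (by push_cast; linear_combination -e :
      ((charDegree (χ : G → ℂ) - charDegree (Y χ) : ℤ) : ℂ) = ((16 * (a - b) : ℤ) : ℂ))⟩
  have fin : ∀ χ : IrrCharacter G, χ ∈ principalBlock M G → charDegree (χ : G → ℂ) < 16 →
      ∀ n : π.ker, (χ : G → ℂ) n.1 = (χ : G → ℂ) 1 := fun χ hχ hd n => by
    have e1 := congrArg Complex.re (hav χ 1)
    simp only [mul_one, map_one, Complex.re_sum, ← (hY χ).charDegree_cast, Complex.mul_re,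
      Complex.natCast_re, Complex.natCast_im, mul_zero, sub_zero, coe_subtype] at e1
    have e2 : ∀ n : π.ker, ((χ : G → ℂ) n.1).re ≤ charDegree (χ : G → ℂ) := fun n => by
      have := χ.2.isCharacter.re_le n.1
      rwa [← χ.2.isCharacter.charDegree_cast, Complex.natCast_re] at this
    have e3 := sum_le_sum fun n (_ : n ∈ univ) => e2 n
    rw [e1, sum_const, card_univ, ← Nat.card_eq_fintype_card, nsmul_eq_mul] at e3
    have e4 : charDegree (Y χ) ≤ charDegree (χ : G → ℂ) := by
      exact_mod_cast le_of_mul_le_mul_left e3 (by exact_mod_cast Nat.card_pos)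
    have e5 := d16 χ hχ
    have e6 : charDegree (Y χ) = charDegree (χ : G → ℂ) := by omega
    refine χ.2.isCharacter.eq_of_re_eq ?_
    rw [← χ.2.isCharacter.charDegree_cast, Complex.natCast_re]
    refine (sum_eq_sum_iff_of_le fun n (_ : n ∈ univ) => e2 n).mp ?_ n (mem_univ _)
    rw [e1, sum_const, card_univ, ← Nat.card_eq_fintype_card, nsmul_eq_mul, e6]
  have i0 : ((centralizer ({z} : Set G)).index : ℚ) ≠ 0 := by
    exact_mod_cast index_ne_zero_of_finite
  obtain ⟨χ, e1, e2⟩ | ⟨χ, e⟩ := fam (ι := principalBlock M G)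
    (d := fun χ => charDegree (χ.1 : G → ℂ)) (fun χ => Y χ)
    (fun χ => Int.natCast_pos.mpr χ.1.2.charDegree_pos) (o := ⟨irrOne G, irrOne_mem_principal⟩)
    (K := Nat.card π.ker * Nat.card G / ((centralizer ({z} : Set G)).index ^ 2))
    (div_pos (by exact_mod_cast Nat.mul_pos Nat.card_pos Nat.card_pos) (by positivity))
    (fun χ => hY χ)
    (fun m => by
      obtain ⟨c, rfl⟩ := h.surj m
      refine mul_left_cancel₀ m0 ((hav _ c).symm.trans ?_)
      change ∑ _n : π.ker, (1 : ℂ) = _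
      simp [Nat.card_eq_fintype_card])
    (by exact_mod_cast charDegree_one')
    (fun χ => Dvd.dvd.trans (by decide) (d16 χ χ.2))
    (fun m m' k k' e e' => by
      obtain ⟨c, rfl⟩ := h.surj m
      obtain ⟨c', rfl⟩ := h.surj m'
      rw [sum_congr rfl fun χ _ => by rw [← P1 _ _ e' χ χ.2],
        sub (fun χ => Y χ (π c) * conj ((χ : G → ℂ) c')) fun χ hχ => by rw [P2 _ _ e χ hχ, zero_mul]]
      refine mul_left_cancel₀ m0 ?_
      rw [← h.sum_conj e e', mul_sum]
      simp only [← col, ← mul_assoc, ← hav, sum_mul]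
      exact sum_comm)
    (fun m k e => by
      obtain ⟨c, rfl⟩ := h.surj m
      rw [sub (fun χ => Y χ (π c) * ((charDegree (χ : G → ℂ) : ℤ) : ℂ))
        fun χ hχ => by rw [P2 _ _ e χ hχ, zero_mul]]
      refine mul_left_cancel₀ m0 ?_
      rw [mul_sum, mul_zero]
      simp only [← mul_assoc, ← hav, sum_mul]
      rw [sum_comm]
      refine sum_eq_zero fun n _ => ?_
      rw [← column_orthogonality_of_not_isConj (g := ((n.1 * c : centralizer ({z} : Set G)) : G))
        (h := 1) fun e' => ?_]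
      · refine sum_congr rfl fun χ _ => ?_
        rw [← χ.2.isCharacter.charDegree_cast]
        simp
      · have : n.1 * c = 1 := Subtype.ext (isConj_one_left.mp e')
        have e2 := congrArg π this
        rw [map_mul, show π n.1 = 1 from n.2, one_mul, map_one] at e2
        rw [e2, one_pow] at e
        exact absurd e (by decide +kernel))
    (fun m k e => by
      obtain ⟨c, rfl⟩ := h.surj m
      have e0 : π (zc z) ^ 1 = T := by rw [pow_one, h.hT]
      rw [sum_congr rfl fun χ _ => by rw [← h.hT, ← P1 _ _ e0 χ χ.2],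
        sub (fun χ => (χ : G → ℂ) (zc z) * (χ : G → ℂ) (zc z) * conj (Y χ (π c)) /
          ((charDegree (χ : G → ℂ) : ℤ) : ℂ)) fun χ hχ => by rw [P2 _ _ e χ hχ]; simp]
      refine mul_left_cancel₀ m0 ?_
      have q : ∀ n : π.ker, ∑ χ : IrrCharacter G, (χ : G → ℂ) z * (χ : G → ℂ) z *
          conj ((χ : G → ℂ) (n.1 * c : centralizer ({z} : Set G))) / (χ : G → ℂ) 1 =
          np (π c) * (Nat.card π.ker * Nat.card G / ((centralizer ({z} : Set G)).index ^ 2) : ℚ) :=
        fun n => by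
        have e3 := card_class_mul_eq z z (n.1 * c : centralizer ({z} : Set G))
        have e4 : π (n.1 * c) = π c := by rw [map_mul, show π n.1 = 1 from n.2, one_mul]
        rw [h.card_pairs (k := k) (e4 ▸ e), e4] at e3
        have i1 : ((centralizer ({z} : Set G)).index : ℂ) ≠ 0 := by
          exact_mod_cast index_ne_zero_of_finite
        have i2 : (Nat.card G : ℂ) ≠ 0 := by exact_mod_cast Nat.card_pos.ne'
        push_cast
        field_simp at e3 ⊢
        linear_combination -e3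
      have := sum_congr rfl fun n (_ : n ∈ univ) => q n
      rw [sum_const, card_univ, ← Nat.card_eq_fintype_card, nsmul_eq_mul, sum_comm] at this
      rw [← this, mul_sum]
      refine sum_congr rfl fun χ _ => ?_
      have e5 := congrArg conj (hav χ c)
      rw [map_mul, map_natCast, map_sum] at e5
      rw [← sum_div, ← mul_sum, Int.cast_natCast, χ.2.isCharacter.charDegree_cast]
      erw [e5]
      change _ * ((χ : G → ℂ) z * (χ : G → ℂ) z * _ / _) = _
      ring)
  · obtain ⟨l, hl⟩ := χ.1.2.isCharacter.exists_linear (by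
      rw [← χ.1.2.isCharacter.charDegree_cast]; exact_mod_cast e1)
    obtain ⟨c, hc⟩ := h.surj R
    have e3 := P1 c 4 (by rw [hc]; decide +kernel) χ χ.2
    rw [hc, e2, hl] at e3
    obtain e' | e' := l.normal_ker.eq_bot_or_eq_top
    · exact absurd ⟨⟨fun a b => (l.ker_eq_bot_iff.mp e') (by rw [map_mul, map_mul, mul_comm])⟩⟩ hG
    · simp only [show l c = 1 from e'.ge (mem_top _)] at e3
      norm_num at e3
  · have e' : charDegree (χ.1 : G → ℂ) = 10 ∨ charDegree (χ.1 : G → ℂ) = 12 := by omega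
    have e2 := χ.1.2.charKer_eq_bot_of_simple fun e => by
      rw [e, charDegree_one'] at e'
      omega
    refine eq_bot_iff.mpr fun n hn => Subtype.ext ?_
    exact e2.le (χ.1.2.isCharacter.mem_charKer.mpr (fin χ χ.2 (by omega) ⟨n, hn⟩))

end WO

end Cfsg.Agent.WN
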